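import Mathlib
import Groth.Agent.UnipHopfLib.Alg
import Groth.Agent.GLinFinLib.Trig
import Groth.Agent.HopfFFLib.Normal.Correspondence
import Groth.Agent.HopfFFLib.SubHopf

/-!
The unipotent kernel of a trigonalizable group and its diagonalizable quotient.
-/

set_option autoImplicit false
set_option maxHeartbeats 1000000

noncomputable section

universe u v w

open TensorProduct HopfRep WithConv
open scoped ComodLib

namespace Groth.Agent.TrigKerLib

variable {k : Type u} [Field k] {A : Type u} [CommRing A] [HopfAlgebra k A]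

local notation "𝔸" => ComodLib.Dual' k A

variable (k A) in
/-- The subalgebra spanned by the group-like elements. -/
def glAlg : Subalgebra k A := Algebra.adjoin k {a : A | IsGroupLikeElem k a}

lemma mem_glAlg {a : A} : a ∈ glAlg k A ↔ a ∈ Submodule.span k {a : A | IsGroupLikeElem k a} := by
  let M : Submonoid A :=
    { carrier := {a : A | IsGroupLikeElem k a}
      mul_mem' := fun ha hb => IsGroupLikeElem.mul ha hb
      one_mem' := IsGroupLikeElem.one }
  have e : Submonoid.closure {a : A | IsGroupLikeElem k a} = M := Submonoid.closure_eq M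
  rw [glAlg, ← Subalgebra.mem_toSubmodule, Algebra.adjoin_eq_span, e]
  rfl

lemma isSubHopf_glAlg : HopfFF.IsSubHopf k A (glAlg k A) := by
  refine ⟨fun b hb => ?_, fun b hb => ?_⟩
  · have hle : glAlg k A ≤ (Algebra.TensorProduct.map (glAlg k A).val (glAlg k A).val).range.comap
        (Bialgebra.comulAlgHom k A) := by
      refine Algebra.adjoin_le fun g hg => ?_
      exact ⟨(⟨g, Algebra.subset_adjoin hg⟩ : glAlg k A) ⊗ₜ[k] ⟨g, Algebra.subset_adjoin hg⟩,
        hg.comul_eq_tmul_self.symm⟩
    exact hle hb
  · have hle : glAlg k A ≤ (glAlg k A).comap (HopfAlgebra.antipodeAlgHom k A) :=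
      Algebra.adjoin_le fun g hg => Algebra.subset_adjoin hg.antipode
    exact hle hb

/-- The ideal of the augmentation of a sub-Hopf algebra is a Hopf ideal. -/
theorem isHopfIdeal_augIdealSpan {B : Subalgebra k A} (hB : HopfFF.IsSubHopf k A B) :
    (SGA3.augIdealSpan k A B).IsHopfIdeal k := by
  set I := SGA3.augIdealSpan k A B
  have hq : ∀ x ∈ B, Ideal.Quotient.mkₐ k I x = algebraMap k (A ⧸ I) (CoalgebraStruct.counit (R := k) x) := by
    intro x hx
    have h0 : x - algebraMap k A (CoalgebraStruct.counit (R := k) x) ∈ I :=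
      Ideal.subset_span ⟨sub_mem hx (B.algebraMap_mem _), by rw [map_sub, Bialgebra.counit_algebraMap, sub_self]⟩
    rw [← Ideal.Quotient.eq_zero_iff_mem, map_sub, sub_eq_zero, Ideal.Quotient.mk_algebraMap] at h0
    exact h0
  have hε : ∀ y ∈ I, CoalgebraStruct.counit (R := k) y = 0 := fun y hy => by
    have hle : I ≤ RingHom.ker (Bialgebra.counitAlgHom k A) := Ideal.span_le.2 fun a ha => ha.2
    exact hle hy
  have hco : ∀ y ∈ I, Algebra.TensorProduct.map (Ideal.Quotient.mkₐ k I) (Ideal.Quotient.mkₐ k I)
      (CoalgebraStruct.comul (R := k) y) = 0 := fun y hy => by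
    have hle : I ≤ RingHom.ker ((Algebra.TensorProduct.map (Ideal.Quotient.mkₐ k I) (Ideal.Quotient.mkₐ k I)).comp
        (Bialgebra.comulAlgHom k A)) := by
      refine Ideal.span_le.2 fun b hb => ?_
      obtain ⟨w, hw⟩ := hB.1 b hb.1
      have hz : ∀ w : ↥B ⊗[k] ↥B, Algebra.TensorProduct.map (Ideal.Quotient.mkₐ k I) (Ideal.Quotient.mkₐ k I)
          (TensorProduct.map B.val.toLinearMap B.val.toLinearMap w) = algebraMap k _
            (LinearMap.mul' k k (TensorProduct.map (CoalgebraStruct.counit (R := k) (A := A))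
              (CoalgebraStruct.counit (R := k) (A := A))
              (TensorProduct.map B.val.toLinearMap B.val.toLinearMap w))) := fun w => by
        induction w using TensorProduct.induction_on with
        | zero => simp
        | add p q hp hq' => simp only [map_add, hp, hq']
        | tmul p q =>
          simp only [TensorProduct.map_tmul, AlgHom.toLinearMap_apply, Subalgebra.coe_val,
            Algebra.TensorProduct.map_tmul, LinearMap.mul'_apply, hq _ p.2, hq _ q.2]
          rw [map_mul, Algebra.TensorProduct.algebraMap_apply, Algebra.TensorProduct.algebraMap_apply',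
            Algebra.TensorProduct.tmul_mul_tmul, one_mul, mul_one]
      rw [SetLike.mem_coe, RingHom.mem_ker, AlgHom.comp_apply, Bialgebra.comulAlgHom_apply, ← hw, hz, hw]
      have : LinearMap.mul' k k (TensorProduct.map (CoalgebraStruct.counit (R := k) (A := A))
          (CoalgebraStruct.counit (R := k) (A := A)) (CoalgebraStruct.comul (R := k) b)) =
          CoalgebraStruct.counit (R := k) b := by
        conv_rhs => rw [← ComodLib.slice_counit (k := k) (A := A) b]
        show _ = CoalgebraStruct.counit (R := k) (ComodLib.slice _ (CoalgebraStruct.comul (R := k) b))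
        generalize CoalgebraStruct.comul (R := k) b = z
        induction z using TensorProduct.induction_on with
        | zero => simp
        | add p q hp hq' => simp only [map_add, hp, hq']
        | tmul p q => simp [mul_comm]
      rw [this, hb.2, map_zero]
    exact hle hy
  haveI : (I.restrictScalars k).IsCoideal := by
    refine ⟨hε, fun y hy => ?_⟩
    exact hco y hy
  refine ⟨fun y hy => ?_⟩
  have hle : I ≤ I.comap (HopfAlgebra.antipodeAlgHom k A) := Ideal.span_le.2 fun b hb =>
    Ideal.subset_span ⟨hB.2 b hb.1, by rw [HopfAlgebra.antipodeAlgHom_apply, HopfAlgebra.counit_antipode, hb.2]⟩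
  exact hle hy

/-- A one-dimensional step of subcomodules of the regular comodule is governed by a group-like element. -/
theorem exists_groupLike_step {F F' : Submodule k A} (hF : IsSubcomod (k := k) (A := A) F)
    (hF' : IsSubcomod (k := k) (A := A) F') {x : A} (hxF : x ∉ F) (hF'le : F' ≤ F ⊔ Submodule.span k {x})
    (hx : x ∈ F') :
    ∃ g : A, IsGroupLikeElem k g ∧
      CoalgebraStruct.comul (R := k) x - x ⊗ₜ[k] g ∈ LinearMap.range (F.subtype.rTensor A) := by
  obtain ⟨φ, hφx, hφF⟩ := Submodule.exists_dual_map_eq_bot_of_notMem hxF inferInstance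
  replace hφF : ∀ y ∈ F, φ y = 0 := fun y hy => by
    have : φ y ∈ F.map φ := Submodule.mem_map_of_mem hy
    rwa [hφF, Submodule.mem_bot] at this
  have hcF : ∀ y ∈ F, ComodLib.coeff (A := A) φ y = 0 := fun y hy => by
    obtain ⟨w, hw⟩ := hF y hy
    rw [ComodLib.coeff_apply, ← hw]
    clear hw
    induction w using TensorProduct.induction_on with
    | zero => simp
    | add p q hp hq => rw [map_add, map_add, hp, hq, add_zero]
    | tmul p q => simp [hφF _ p.2]
  let g := (φ x)⁻¹ • ComodLib.coeff (A := A) φ x
  have key : ∀ f : 𝔸, f • x - f g • x ∈ F := fun f => by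
    obtain ⟨y, hy, z, hz, e⟩ := Submodule.mem_sup.1 (hF'le ((ComodLib.isSubcomod_iff _).1 hF' f x hx))
    obtain ⟨c, rfl⟩ := Submodule.mem_span_singleton.1 hz
    have h2 : φ (f • x) = c * φ x := by rw [← e, map_add, hφF y hy, map_smul, zero_add, smul_eq_mul]
    have h3 : φ (f • x) = f (ComodLib.coeff (A := A) φ x) := by
      rw [ComodLib.smul_eq, ComodLib.coeff_apply]
      exact ComodLib.apply_slice φ _ _
    have hg : f g = c := by
      show f.ofConv ((φ x)⁻¹ • _) = c
      rw [map_smul, smul_eq_mul]
      change (φ x)⁻¹ * f (ComodLib.coeff (A := A) φ x) = c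
      rw [← h3, h2]
      field_simp
    rw [hg, ← e, add_sub_cancel_right]
    exact hy
  refine ⟨g, ⟨?_, ?_⟩, (ComodLib.mem_range_rTensor_iff _ _).2 fun f => ?_⟩
  · show CoalgebraStruct.counit (R := k) ((φ x)⁻¹ • _) = 1
    rw [map_smul, ComodLib.counit_coeff, smul_eq_mul, inv_mul_cancel₀ hφx]
  · refine ComodLib.ext_slice fun f => ?_
    rw [ComodLib.slice_tmul]
    show (toConv f : 𝔸) • g = (toConv f : 𝔸) g • g
    have h0 := hcF _ (key (toConv f))
    rw [map_sub, map_smul, LinearMap.map_smul_of_tower, sub_eq_zero] at h0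
    show (toConv f : 𝔸) • ((φ x)⁻¹ • ComodLib.coeff (A := A) φ x) = _
    rw [smul_comm, h0, smul_comm]
  · rw [map_sub, ComodLib.slice_tmul]
    exact key (toConv f)

/-- A trigonalizable group: the kernel of its diagonalizable quotient is unipotent. -/
theorem isUnipotent_quotient_glAlg (hT : IsTrigonalizable k A)
    [hI : (SGA3.augIdealSpan k A (glAlg k A)).IsHopfIdeal k] :
    IsUnipotent k (A ⧸ SGA3.augIdealSpan k A (glAlg k A)) := by
  classical
  set J := SGA3.augIdealSpan k A (glAlg k A)
  let q : A →ₐ[k] A ⧸ J := Ideal.Quotient.mkₐ k J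
  refine UnipHopf.isUnipotent_of_exhaustive fun y => ?_
  obtain ⟨a, rfl⟩ := Ideal.Quotient.mk_surjective y
  let S : Submodule k A := (Submodule.span 𝔸 ({a} : Set A)).restrictScalars k
  haveI : FiniteDimensional k S := ComodLib.finite_span_singleton A a
  have hS : IsSubcomod (k := k) (A := A) S := ComodLib.isSubcomod_restrictScalars _
  letI := ComodLib.subComod hS
  obtain ⟨F, hmono, hsub, hF0, hdim⟩ := GLinFinLib.Trig.exists_flag hT S
  let W : ℕ → Submodule k A := fun i => (F i).map S.subtype
  have hW : ∀ i, IsSubcomod (k := k) (A := A) (W i) := fun i =>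
    (ComodLib.isSubcomod_iff _).2 fun f y hy => by
      obtain ⟨s, hs, rfl⟩ := hy
      exact ⟨f • s, (ComodLib.isSubcomod_iff _).1 (hsub i) f s hs, ComodLib.subComod_smul_coe hS f s⟩
  have hWdim : ∀ i ≤ Module.finrank k S, Module.finrank k (W i) = i := fun i hi =>
    ((Submodule.equivMapOfInjective S.subtype Subtype.val_injective (F i)).finrank_eq).symm.trans (hdim i hi)
  have hind : ∀ i ≤ Module.finrank k S, ∀ x ∈ W i, q x ∈ UnipHopf.K k (A ⧸ J) i := by
    intro i
    induction i with
    | zero =>
      intro _ x hx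
      simp only [W, hF0, Submodule.map_bot, Submodule.mem_bot] at hx
      rw [hx, map_zero]
      exact zero_mem _
    | succ i ih =>
      intro hi
      have ih' := ih (by omega)
      have hle : W i ≤ W (i + 1) := Submodule.map_mono (hmono i.le_succ)
      obtain ⟨x, hx, hxi⟩ : ∃ x ∈ W (i + 1), x ∉ W i := by
        by_contra hne
        push Not at hne
        have h1 := hWdim (i + 1) hi
        rw [← le_antisymm hle hne, hWdim i (by omega)] at h1
        omega
      have heq : W (i + 1) ≤ W i ⊔ Submodule.span k {x} := by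
        haveI : FiniteDimensional k (W (i + 1)) := Module.finite_of_finrank_pos (by rw [hWdim (i + 1) hi]; omega)
        have hle' : W i ⊔ Submodule.span k {x} ≤ W (i + 1) :=
          sup_le hle ((Submodule.span_singleton_le_iff_mem _ _).2 hx)
        haveI : FiniteDimensional k (W i ⊔ Submodule.span k {x} : Submodule k A) :=
          Submodule.finiteDimensional_of_le hle'
        refine (Submodule.eq_of_le_of_finrank_le hle' ?_).ge
        have hlt : W i < W i ⊔ Submodule.span k {x} := lt_of_le_of_ne le_sup_left fun h =>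
          hxi (h.symm ▸ Submodule.mem_sup_right (Submodule.mem_span_singleton_self x))
        have h1 := Submodule.finrank_lt_finrank_of_lt hlt
        rw [hWdim i (by omega)] at h1
        rw [hWdim (i + 1) hi]
        omega
      obtain ⟨g, hg, hgx⟩ := exists_groupLike_step (hW i) (hW (i + 1)) hxi heq hx
      have hqg : q g = 1 := by
        have h0 : g - 1 ∈ J := Ideal.subset_span ⟨sub_mem (Algebra.subset_adjoin hg) (one_mem _),
          by rw [map_sub, hg.counit_eq_one, Bialgebra.counit_one, sub_self]⟩
        have := Ideal.Quotient.eq.2 h0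
        simpa [q] using this
      have hqx : q x ∈ UnipHopf.K k (A ⧸ J) (i + 1) := by
        refine UnipHopf.mem_soc_succ_of_coact_sub ?_
        show CoalgebraStruct.comul (R := k) (q x) - q x ⊗ₜ[k] (1 : A ⧸ J) ∈ _
        obtain ⟨w, hw⟩ := hgx
        have e : CoalgebraStruct.comul (R := k) (q x) - q x ⊗ₜ[k] (1 : A ⧸ J) =
            Algebra.TensorProduct.map q q ((W i).subtype.rTensor A w) := by
          rw [hw, map_sub, Algebra.TensorProduct.map_tmul, hqg]
          rfl
        rw [e]
        clear e hw
        induction w using TensorProduct.induction_on with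
        | zero => rw [map_zero, map_zero]; exact zero_mem _
        | add u v hu hv => rw [map_add, map_add]; exact add_mem hu hv
        | tmul u v => exact ⟨⟨q u, ih' u u.2⟩ ⊗ₜ[k] q v, rfl⟩
      intro y hy
      obtain ⟨y₁, hy₁, z, hz, rfl⟩ := Submodule.mem_sup.1 (heq hy)
      obtain ⟨c, rfl⟩ := Submodule.mem_span_singleton.1 hz
      rw [map_add, map_smul]
      exact add_mem (UnipHopf.K_mono i.le_succ (ih' _ hy₁)) (Submodule.smul_mem _ _ hqx)
  refine ⟨Module.finrank k S, hind _ le_rfl a ⟨⟨a, Submodule.mem_span_singleton_self a⟩, ?_, rfl⟩⟩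
  rw [Submodule.eq_top_of_finrank_eq (hdim _ le_rfl)]
  exact Submodule.mem_top

/-- An extension of a diagonalizable group by a unipotent one is trigonalizable. -/
theorem isTrigonalizable_of_unipotent_kernel {B : Subalgebra k A} (hB : HopfFF.IsSubHopf k A B)
    (hdiag : B ≤ glAlg k A) {J : Ideal A} [J.IsHopfIdeal k] (hJ : J ≤ SGA3.augIdealSpan k A B)
    (hU : IsUnipotent k (A ⧸ J)) : IsTrigonalizable k A := by
  classical
  intro V _ _ cV hfin hsimple
  haveI := hfin
  haveI : Nontrivial V := hsimple.1
  let q : A →ₐc[k] A ⧸ J := Bialgebra.Quotient.mkBialgHom J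
  -- fixed vectors of the kernel have coefficients in `B`
  obtain ⟨v, hv0, hv⟩ : ∃ v : V, v ≠ 0 ∧
      TensorProduct.map LinearMap.id (q : A →ₗ[k] A ⧸ J) (Comod.coact (k := k) (A := A) v) =
        v ⊗ₜ[k] (1 : A ⧸ J) := by
    letI cq : Comod k (A ⧸ J) V := GLin.comodAlong q cV
    obtain ⟨v, hv, hv0⟩ := (Submodule.ne_bot_iff _).1 (hU V hfin inferInstance)
    exact ⟨v, hv0, hv⟩
  have hcoef : ∀ φ : V →ₗ[k] k, ComodLib.coeff (A := A) φ v ∈ B := fun φ => by
    refine HopfFF.coinv_le_of_le_augSpan hB hJ ?_
    rw [HopfFF.mem_coinv]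
    show Algebra.TensorProduct.map (AlgHom.id k A) (HopfFF.qmap (k := k) J) _ = _
    refine ComodLib.ext_slice fun f => ?_
    let f' : A →ₗ[k] k := f ∘ₗ (q : A →ₗ[k] A ⧸ J)
    have h1 : ∀ z : A ⊗[k] A, ComodLib.slice f (Algebra.TensorProduct.map (AlgHom.id k A)
        (HopfFF.qmap (k := k) J) z) = ComodLib.slice f' z := fun z => by
      induction z using TensorProduct.induction_on with
      | zero => simp
      | add p r hp hr => simp only [map_add, hp, hr]
      | tmul p r => simp [f']; congr 2
    have h2 : (toConv f' : 𝔸) • v = f 1 • v := by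
      rw [ComodLib.smul_eq]
      have := congrArg (ComodLib.slice f) hv
      rw [ComodLib.slice_tmul] at this
      rw [← this]
      generalize Comod.coact (k := k) (A := A) v = z
      induction z using TensorProduct.induction_on with
      | zero => simp
      | add p r hp hr => simp only [map_add, hp, hr]
      | tmul p r => simp [f']
    rw [h1, ComodLib.slice_tmul]
    show (toConv f' : 𝔸) • (ComodLib.coeff (A := A) φ v) = _
    rw [← map_smul, h2, LinearMap.map_smul_of_tower]
  have hstab : ∀ (f : 𝔸) (b : A), b ∈ B → f • b ∈ B := fun f b hb => by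
    obtain ⟨w, hw⟩ := hB.1 b hb
    rw [ComodLib.smul_eq, show Comod.coact (k := k) (A := A) b = CoalgebraStruct.comul (R := k) b from rfl, ← hw]
    clear hw
    induction w using TensorProduct.induction_on with
    | zero => simp
    | add p r hp hr => rw [map_add, map_add]; exact add_mem hp hr
    | tmul p r =>
      rw [TensorProduct.map_tmul, ComodLib.slice_tmul]
      exact B.smul_mem p.2 _
  let W : Submodule k V :=
    ⨅ φ : V →ₗ[k] k, (Subalgebra.toSubmodule B).comap ((ComodLib.coeff (A := A) φ).restrictScalars k)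
  have hW : IsSubcomod (k := k) (A := A) W := (ComodLib.isSubcomod_iff _).2 fun f y hy => by
    simp only [W, Submodule.mem_iInf, Submodule.mem_comap] at hy ⊢
    intro φ
    show ComodLib.coeff (A := A) φ (f • y) ∈ B
    rw [map_smul]
    exact hstab f _ (hy φ)
  have hWtop : W = ⊤ := (hsimple.2 W hW).resolve_left ((Submodule.ne_bot_iff _).2
    ⟨v, by simp only [W, Submodule.mem_iInf, Submodule.mem_comap]; exact hcoef, hv0⟩)
  -- find an eigenvector
  obtain ⟨φ, hφ⟩ := ComodLib.exists_dual_ne (k := k) hv0
  set ψ := ComodLib.coeff (A := A) φ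
  have hψv : ψ v ≠ 0 := fun h => hφ (by
    have := congrArg (CoalgebraStruct.counit (R := k)) h
    rwa [ComodLib.counit_coeff, map_zero] at this)
  have hψ : Function.Injective ψ := by
    rcases hsimple.2 _ (ComodLib.isSubcomod_restrictScalars (LinearMap.ker ψ)) with h | h
    · refine LinearMap.ker_eq_bot.1 ?_
      rwa [Submodule.restrictScalars_eq_bot_iff] at h
    · refine absurd ?_ hψv
      have : v ∈ (LinearMap.ker ψ).restrictScalars k := h ▸ Submodule.mem_top
      exact this
  have hmem : ψ v ∈ Submodule.span k (Set.range fun g : GroupLike k A => (g.val : A)) := by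
    refine Submodule.span_mono ?_ (mem_glAlg.1 (hdiag (hcoef φ)))
    exact fun g hg => ⟨⟨g, hg⟩, rfl⟩
  obtain ⟨l, hl⟩ := Finsupp.mem_span_range_iff_exists_finsupp.1 hmem
  obtain ⟨g, hg⟩ : l.support.Nonempty := Finsupp.support_nonempty_iff.2 fun h => hψv (by rw [← hl, h]; simp)
  have hli : LinearIndependent k (fun g : GroupLike k A => (g.val : A)) :=
    linearIndepOn_isGroupLikeElem.linearIndependent.comp (fun g : GroupLike k A => ⟨g.val, g.isGroupLikeElem_val⟩)
      fun _ _ h => GroupLike.val_injective (congrArg Subtype.val h)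
  obtain ⟨δ, hδg, hδ⟩ := Submodule.exists_dual_map_eq_bot_of_notMem
    (hli.notMem_span_image (x := g) (s := {g}ᶜ) (by simp)) inferInstance
  have hδ' : ∀ h : GroupLike k A, h ≠ g → δ h.val = 0 := fun h hne => by
    have h1 : δ h.val ∈ (Submodule.span k ((fun g : GroupLike k A => (g.val : A)) '' {g}ᶜ)).map δ :=
      Submodule.mem_map_of_mem (Submodule.subset_span ⟨h, hne, rfl⟩)
    rwa [hδ, Submodule.mem_bot] at h1
  have hgl : ∀ (f : 𝔸) (h : GroupLike k A), f • h.val = f h.val • h.val := fun f h => by
    rw [ComodLib.smul_eq, show Comod.coact (k := k) (A := A) h.val = CoalgebraStruct.comul (R := k) h.val from rfl,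
      h.isGroupLikeElem_val.comul_eq_tmul_self, ComodLib.slice_tmul]
  have hact : (toConv δ : 𝔸) • ψ v = (l g * δ g.val) • g.val := by
    rw [← hl, Finsupp.sum, Finset.smul_sum, Finset.sum_eq_single g]
    · rw [smul_comm, hgl, smul_smul]
    · intro h _ hne
      rw [smul_comm, hgl]
      show l h • (δ h.val • h.val) = 0
      rw [hδ' h hne, zero_smul, smul_zero]
    · exact fun h => absurd hg h
  have hc : l g * δ g.val ≠ 0 := mul_ne_zero (Finsupp.mem_support_iff.1 hg) hδg
  obtain ⟨w, hw⟩ : ∃ w, ψ w = g.val := ⟨(l g * δ g.val)⁻¹ • ((toConv δ : 𝔸) • v), by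
    rw [LinearMap.map_smul_of_tower, map_smul, hact, smul_smul, inv_mul_cancel₀ hc, one_smul]⟩
  have hw0 : w ≠ 0 := fun h => g.isGroupLikeElem_val.ne_zero (by rw [← hw, h, map_zero])
  have heig : ∀ f : 𝔸, f • w = f g.val • w := fun f => hψ (by
    rw [map_smul, LinearMap.map_smul_of_tower, hw, hgl])
  have hline : IsSubcomod (k := k) (A := A) (Submodule.span k {w}) := (ComodLib.isSubcomod_iff _).2 fun f y hy => by
    obtain ⟨c, rfl⟩ := Submodule.mem_span_singleton.1 hy
    rw [smul_comm, heig]
    exact Submodule.smul_mem _ _ (Submodule.smul_mem _ _ (Submodule.mem_span_singleton_self w))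
  rcases hsimple.2 _ hline with h | h
  · exact absurd (Submodule.span_singleton_eq_bot.1 h) hw0
  · rw [← finrank_top k V, ← h, finrank_span_singleton hw0]

end Groth.Agent.TrigKerLib
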